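import Groth.Agent.Lib.OX.Resolution

/-! # Functoriality of the K-flat resolution -/

set_option autoImplicit false
set_option maxHeartbeats 800000
set_option backward.isDefEq.respectTransparency false
universe u

open CategoryTheory CategoryTheory.Limits AlgebraicGeometry Opposite HomologicalComplex
open CochainComplex (mappingCone)
open CochainComplex.HomComplex (Cochain Cocycle δ)

namespace GrothLib.OX.KFlatFun28

variable {X : Scheme.{u}}

/-- The covers are functorial. -/
noncomputable def coverMap {M N : X.Modules} (f : M ⟶ N) : coverObj M ⟶ coverObj N :=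
  Sigma.desc fun s => Sigma.ι (fun t : Σ U : X.Opens, N.val.obj (op U) => gen X t.1)
    ⟨s.1, f.val.app (op s.1) s.2⟩

@[reassoc]
theorem ι_coverMap {M N : X.Modules} (f : M ⟶ N) (s : Σ U : X.Opens, M.val.obj (op U)) :
    Sigma.ι (fun t : Σ U : X.Opens, M.val.obj (op U) => gen X t.1) s ≫ coverMap f =
      Sigma.ι (fun t : Σ U : X.Opens, N.val.obj (op U) => gen X t.1) ⟨s.1, f.val.app (op s.1) s.2⟩ :=
  Sigma.ι_desc _ _

theorem coverMap_id (M : X.Modules) : coverMap (𝟙 M) = 𝟙 (coverObj M) := by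
  refine Sigma.hom_ext _ _ fun s => ?_
  exact (ι_coverMap (𝟙 M) s).trans (Category.comp_id _).symm

theorem coverMap_comp {M N P : X.Modules} (f : M ⟶ N) (g : N ⟶ P) :
    coverMap (f ≫ g) = coverMap f ≫ coverMap g := by
  refine Sigma.hom_ext _ _ fun s => ?_
  exact (ι_coverMap (f ≫ g) s).trans ((ι_coverMap_assoc f s _).trans (ι_coverMap g _)).symm

theorem coverMap_π {M N : X.Modules} (f : M ⟶ N) : coverMap f ≫ coverπ N = coverπ M ≫ f := by
  refine Sigma.hom_ext _ _ fun s => ?_
  refine (ι_coverMap_assoc f s _).trans ?_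
  erw [Sigma.ι_desc, Sigma.ι_desc_assoc]
  refine (genHomEquiv s.1 N).injective ?_
  rw [Equiv.apply_symm_apply, genHomEquiv_comp, Equiv.apply_symm_apply]

/-- Maps of complexes with zero differential. -/
noncomputable def zeroMap {F F' : ℤ → X.Modules} (h : ∀ n, F n ⟶ F' n) : zeroCx F ⟶ zeroCx F' where
  f := h
  comm' i j _ := by
    show h i ≫ 0 = 0 ≫ h j
    rw [comp_zero, zero_comp]

theorem zeroMap_id {F : ℤ → X.Modules} (h : ∀ n, F n ⟶ F n) (hh : ∀ n, h n = 𝟙 (F n)) :
    zeroMap h = 𝟙 (zeroCx F) := HomologicalComplex.hom_ext _ _ hh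

theorem zeroMap_comp {F F' F'' : ℤ → X.Modules} (h : ∀ n, F n ⟶ F' n) (h' : ∀ n, F' n ⟶ F'' n)
    (h'' : ∀ n, F n ⟶ F'' n) (hh : ∀ n, h'' n = h n ≫ h' n) :
    zeroMap h'' = zeroMap h ≫ zeroMap h' := HomologicalComplex.hom_ext _ _ hh

theorem zeroCxCochain_nat {F F' : ℤ → X.Modules} {G G' : CochainComplex X.Modules ℤ} (φ : G ⟶ G')
    (a : ∀ n, F n ⟶ F' n) (h : ∀ n, F n ⟶ G.X (n - 1)) (h' : ∀ n, F' n ⟶ G'.X (n - 1))
    (hh : ∀ n, a n ≫ h' n = h n ≫ φ.f (n - 1)) (p q : ℤ) (hpq : p + (-1) = q) :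
    (zeroMap a).f p ≫ (zeroCxCochain h').v p q hpq = (zeroCxCochain h).v p q hpq ≫ φ.f q := by
  obtain rfl : q = p - 1 := by omega
  simp only [zeroCxCochain, Cochain.mk_v, HomologicalComplex.XIsoOfEq_rfl, Iso.refl_hom]
  exact (congrArg (fun z => a p ≫ z) (Category.comp_id (h' p))).trans
    ((hh p).trans (congrArg (fun z => z ≫ φ.f (p - 1)) (Category.comp_id (h p))).symm)

section Cone

variable {K K' L L' G G' : CochainComplex X.Modules ℤ} {f : K ⟶ L} {f' : K' ⟶ L'}
  (a : K ⟶ K') (b : L ⟶ L') (comm : f ≫ b = a ≫ f') (φ : G ⟶ G')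

open CochainComplex.mappingCone in
theorem map_desc (α : Cochain K G (-1)) (β : L ⟶ G)
    (eq : δ (-1) 0 α = Cochain.ofHom (f ≫ β)) (α' : Cochain K' G' (-1)) (β' : L' ⟶ G')
    (eq' : δ (-1) 0 α' = Cochain.ofHom (f' ≫ β'))
    (hα : ∀ (p q : ℤ) (hpq : p + (-1) = q), a.f p ≫ α'.v p q hpq = α.v p q hpq ≫ φ.f q)
    (hβ : b ≫ β' = β ≫ φ) :
    CochainComplex.mappingCone.map f f' a b comm ≫ desc f' α' β' eq' = desc f α β eq ≫ φ := by
  refine HomologicalComplex.hom_ext _ _ fun n => ?_
  simp only [HomologicalComplex.comp_f]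
  refine CochainComplex.mappingCone.ext_from f (n + 1) n rfl ?_ ?_
  · simp [CochainComplex.mappingCone.map, hα (n + 1) n (by omega)]
  · simp only [CochainComplex.mappingCone.map, inr_f_desc_f_assoc, HomologicalComplex.comp_f,
      Category.assoc, inr_f_desc_f]
    exact congrArg (fun z => z.f n) hβ

end Cone

section Start

variable {G G' : CochainComplex X.Modules ℤ} (φ : G ⟶ G')

/-- The map of covers of cycles. -/
noncomputable def cycFun : cyc G ⟶ cyc G' := zeroMap fun n => coverMap (cyclesMap φ n)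

theorem cycFun_id (G : CochainComplex X.Modules ℤ) : cycFun (𝟙 G) = 𝟙 (cyc G) :=
  zeroMap_id _ fun n => by rw [cyclesMap_id, coverMap_id]

theorem cycFun_comp {G'' : CochainComplex X.Modules ℤ} (ψ : G' ⟶ G'') :
    cycFun (φ ≫ ψ) = cycFun φ ≫ cycFun ψ :=
  zeroMap_comp _ _ _ fun n => by rw [cyclesMap_comp, coverMap_comp]

/-- The map of covers of terms. -/
noncomputable def termsFun : terms G ⟶ terms G' := zeroMap fun n => coverMap (φ.f (n - 1))

theorem termsFun_id (G : CochainComplex X.Modules ℤ) : termsFun (𝟙 G) = 𝟙 (terms G) :=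
  zeroMap_id _ fun n => by rw [HomologicalComplex.id_f, coverMap_id]

theorem termsFun_comp {G'' : CochainComplex X.Modules ℤ} (ψ : G' ⟶ G'') :
    termsFun (φ ≫ ψ) = termsFun φ ≫ termsFun ψ :=
  zeroMap_comp _ _ _ fun n => by rw [HomologicalComplex.comp_f, coverMap_comp]

theorem cycFun_map : cycFun φ ≫ cycMap G' = cycMap G ≫ φ := by
  refine HomologicalComplex.hom_ext _ _ fun n => ?_
  show coverMap (cyclesMap φ n) ≫ coverπ _ ≫ G'.iCycles n = (coverπ _ ≫ G.iCycles n) ≫ φ.f n
  rw [← Category.assoc, coverMap_π, Category.assoc, cyclesMap_i, Category.assoc]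

theorem termsCochain_nat (p q : ℤ) (hpq : p + (-1) = q) :
    (termsFun φ).f p ≫ (termsCochain G').v p q hpq = (termsCochain G).v p q hpq ≫ φ.f q :=
  zeroCxCochain_nat φ _ _ _ (fun n => coverMap_π (φ.f (n - 1))) p q hpq

theorem termsFun_map : termsFun φ ≫ termsMap G' = termsMap G ≫ φ := by
  refine HomologicalComplex.hom_ext _ _ fun n => ?_
  simp only [HomologicalComplex.comp_f, termsMap, Cocycle.homOf_f, Cocycle.mk_coe]
  rw [termsCochain, termsCochain]
  erw [δ_zeroCxCochain, δ_zeroCxCochain]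
  show coverMap (φ.f (n - 1)) ≫ coverπ _ ≫ G'.d (n - 1) n = (coverπ _ ≫ G.d (n - 1) n) ≫ φ.f n
  rw [← Category.assoc, coverMap_π, Category.assoc, φ.comm, Category.assoc]

/-- The map of starting points. -/
noncomputable def startFun : (startRes G).K ⟶ (startRes G').K :=
  biprod.map (cycFun φ) (CochainComplex.mappingCone.map (𝟙 (terms G)) (𝟙 (terms G')) (termsFun φ)
    (termsFun φ) (by rw [Category.id_comp, Category.comp_id]))

theorem startFun_id (G : CochainComplex X.Modules ℤ) : startFun (𝟙 G) = 𝟙 (startRes G).K := by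
  show biprod.map _ _ = 𝟙 (cyc G ⊞ CochainComplex.mappingCone (𝟙 (terms G)))
  simp only [cycFun_id, termsFun_id, CochainComplex.mappingCone.map_id]
  apply biprod.hom_ext' <;> simp

theorem startFun_comp {G'' : CochainComplex X.Modules ℤ} (ψ : G' ⟶ G'') :
    startFun (φ ≫ ψ) = startFun φ ≫ startFun ψ := by
  apply biprod.hom_ext'
  · simp only [startFun, cycFun_comp]
    erw [biprod.inl_map, biprod.inl_map_assoc, biprod.inl_map]
    simp [Category.assoc]
  · simp only [startFun, termsFun_comp]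
    erw [biprod.inr_map, biprod.inr_map_assoc, biprod.inr_map]
    rw [CochainComplex.mappingCone.map_comp]
    simp [Category.assoc]
    rfl

theorem startFun_q : startFun φ ≫ (startRes G').q = (startRes G).q ≫ φ := by
  apply biprod.hom_ext'
  · show biprod.inl ≫ biprod.map _ _ ≫ biprod.desc _ _ = biprod.inl ≫ biprod.desc _ _ ≫ φ
    rw [biprod.inl_map_assoc, biprod.inl_desc, biprod.inl_desc_assoc]
    exact cycFun_map φ
  · show biprod.inr ≫ biprod.map _ _ ≫ biprod.desc _ _ = biprod.inr ≫ biprod.desc _ _ ≫ φ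
    rw [biprod.inr_map_assoc, biprod.inr_desc, biprod.inr_desc_assoc]
    exact map_desc _ _ _ φ _ _ _ _ _ _ (termsCochain_nat φ) (termsFun_map φ)

end Start

section Step

variable {G G' : CochainComplex X.Modules ℤ} {R : PreRes G} {R' : PreRes G'} (φ : G ⟶ G')
  (h : R.K ⟶ R'.K) (w : h ≫ R'.q = R.q ≫ φ)

/-- The map of pairs. -/
noncomputable def stepPFun (n : ℤ) : stepP R n ⟶ stepP R' n :=
  pullback.map _ _ _ _ (cyclesMap h n) (φ.f (n - 1)) (φ.f n)
    (by rw [Category.assoc, ← HomologicalComplex.comp_f, ← w, HomologicalComplex.comp_f,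
      cyclesMap_i_assoc]) (φ.comm _ _).symm

theorem stepPFun_fst (n : ℤ) : stepPFun φ h w n ≫ pullback.fst _ _ =
    pullback.fst _ _ ≫ cyclesMap h n := pullback.lift_fst _ _ _

theorem stepPFun_snd (n : ℤ) : stepPFun φ h w n ≫ pullback.snd _ _ =
    pullback.snd _ _ ≫ φ.f (n - 1) := pullback.lift_snd _ _ _

/-- The map of classes to kill. -/
noncomputable def stepSFun : stepS R ⟶ stepS R' := zeroMap fun n => coverMap (stepPFun φ h w n)

theorem stepF_comm : stepF R ≫ h = stepSFun φ h w ≫ stepF R' := by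
  refine HomologicalComplex.hom_ext _ _ fun n => ?_
  show (coverπ _ ≫ pullback.fst _ _ ≫ R.K.iCycles n) ≫ h.f n =
    coverMap (stepPFun φ h w n) ≫ coverπ _ ≫ pullback.fst _ _ ≫ R'.K.iCycles n
  rw [← Category.assoc (coverMap _), coverMap_π, Category.assoc, Category.assoc, Category.assoc,
    ← Category.assoc (stepPFun φ h w n), stepPFun_fst, Category.assoc, cyclesMap_i]

/-- The next map. -/
noncomputable def nextFun : (nextRes R).K ⟶ (nextRes R').K :=
  CochainComplex.mappingCone.map (stepF R) (stepF R') (stepSFun φ h w) h (stepF_comm φ h w)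

theorem nextFun_q : nextFun φ h w ≫ (nextRes R').q = (nextRes R).q ≫ φ :=
  map_desc _ _ _ φ _ _ (δ_stepα R) _ _ (δ_stepα R') (fun p q hpq => zeroCxCochain_nat φ _ _ _ (fun n => by
    rw [← Category.assoc, coverMap_π, Category.assoc, Category.assoc, stepPFun_snd]) p q hpq) w

theorem stepIncl_nextFun : stepIncl R ≫ nextFun φ h w = h ≫ stepIncl R' :=
  by simp [nextFun, stepIncl, CochainComplex.mappingCone.map]

theorem nextFun_id {G : CochainComplex X.Modules ℤ} (R : PreRes G) (φ : G ⟶ G) (hφ : φ = 𝟙 G)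
    (h : R.K ⟶ R.K) (hh : h = 𝟙 R.K) (w : h ≫ R.q = R.q ≫ φ) :
    nextFun φ h w = 𝟙 (nextRes R).K := by
  subst hφ hh
  have : stepSFun (𝟙 G) (𝟙 R.K) w = 𝟙 (stepS R) := zeroMap_id _ fun n => by
    rw [show stepPFun (𝟙 G) (𝟙 R.K) w n = 𝟙 (stepP R n) by
      apply pullback.hom_ext <;> simp [stepPFun], coverMap_id]
  show CochainComplex.mappingCone.map _ _ _ _ _ = 𝟙 _
  simp only [this]
  exact CochainComplex.mappingCone.map_id _

theorem nextFun_comp {G'' : CochainComplex X.Modules ℤ} {R'' : PreRes G''} (ψ : G' ⟶ G'')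
    (h' : R'.K ⟶ R''.K) (w' : h' ≫ R''.q = R'.q ≫ ψ) (χ : G ⟶ G'') (hχ : χ = φ ≫ ψ)
    (h'' : R.K ⟶ R''.K) (hh : h'' = h ≫ h') (w'' : h'' ≫ R''.q = R.q ≫ χ) :
    nextFun χ h'' w'' = nextFun φ h w ≫ nextFun ψ h' w' := by
  subst hχ hh
  have : stepSFun (φ ≫ ψ) (h ≫ h') w'' = stepSFun φ h w ≫ stepSFun ψ h' w' :=
    zeroMap_comp _ _ _ fun n => by
      rw [← coverMap_comp]
      congr 1
      apply pullback.hom_ext
      · rw [stepPFun_fst, Category.assoc, stepPFun_fst, ← Category.assoc, stepPFun_fst,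
          Category.assoc, cyclesMap_comp]
      · rw [stepPFun_snd, Category.assoc, stepPFun_snd, ← Category.assoc, stepPFun_snd,
          Category.assoc, HomologicalComplex.comp_f]
  show CochainComplex.mappingCone.map _ _ _ _ _ =
    CochainComplex.mappingCone.map _ _ _ _ _ ≫ CochainComplex.mappingCone.map _ _ _ _ _
  simp only [this]
  exact CochainComplex.mappingCone.map_comp _ _ _ _ _ _ _ _ _

end Step

section Seq

variable {G G' : CochainComplex X.Modules ℤ} (φ : G ⟶ G')

/-- The maps of approximations. -/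
noncomputable def seqFun : ∀ k : ℕ,
    {h : (resSeq (startRes G) k).K ⟶ (resSeq (startRes G') k).K //
      h ≫ (resSeq (startRes G') k).q = (resSeq (startRes G) k).q ≫ φ}
  | 0 => ⟨startFun φ, startFun_q φ⟩
  | k + 1 => ⟨nextFun φ (seqFun k).1 (seqFun k).2, nextFun_q φ (seqFun k).1 (seqFun k).2⟩

theorem seqFun_id (G : CochainComplex X.Modules ℤ) : ∀ k, (seqFun (𝟙 G) k).1 = 𝟙 _
  | 0 => startFun_id G
  | k + 1 => nextFun_id _ _ rfl _ (seqFun_id G k) _

theorem seqFun_comp {G'' : CochainComplex X.Modules ℤ} (ψ : G' ⟶ G'') :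
    ∀ k, (seqFun (φ ≫ ψ) k).1 = (seqFun φ k).1 ≫ (seqFun ψ k).1
  | 0 => startFun_comp φ ψ
  | k + 1 => nextFun_comp φ _ _ ψ _ _ _ rfl _ (seqFun_comp ψ k) _

/-- The natural transformation of sequences. -/
noncomputable def seqNat : resFun (startRes G) ⟶ resFun (startRes G') :=
  NatTrans.ofSequence (fun k => (seqFun φ k).1) fun k => by
    rw [resFun_succ, resFun_succ]
    exact stepIncl_nextFun φ (seqFun φ k).1 (seqFun φ k).2

/-- The map of resolutions. -/
noncomputable def resHom : resObj (startRes G) ⟶ resObj (startRes G') := colimMap (seqNat φ)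

theorem ι_resHom (k : ℕ) : colimit.ι (resFun (startRes G)) k ≫ resHom φ =
    (seqFun φ k).1 ≫ colimit.ι (resFun (startRes G')) k := ι_colimMap _ k

theorem resHom_id (G : CochainComplex X.Modules ℤ) : resHom (𝟙 G) = 𝟙 _ := by
  refine colimit.hom_ext fun k => ?_
  rw [ι_resHom, seqFun_id]
  exact (Category.id_comp _).trans (Category.comp_id _).symm

theorem resHom_comp {G'' : CochainComplex X.Modules ℤ} (ψ : G' ⟶ G'') :
    resHom (φ ≫ ψ) = resHom φ ≫ resHom ψ := by
  refine colimit.hom_ext fun k => ?_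
  rw [ι_resHom, seqFun_comp]
  refine Eq.symm ((Category.assoc _ _ _).symm.trans ?_)
  refine (congrArg (fun z => z ≫ resHom ψ) (ι_resHom φ k)).trans ?_
  refine (Category.assoc _ _ _).trans ?_
  refine (congrArg (fun z => (seqFun φ k).1 ≫ z) (ι_resHom ψ k)).trans ?_
  exact (Category.assoc _ _ _).symm

theorem resHom_map : resHom φ ≫ resMap (startRes G') = resMap (startRes G) ≫ φ := by
  refine colimit.hom_ext fun k => ?_
  rw [← Category.assoc, ι_resHom, Category.assoc, resMap, resMap]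
  erw [colimit.ι_desc, colimit.ι_desc_assoc]
  exact (seqFun φ k).2

end Seq

variable (X) in
/-- The functorial K-flat resolution. -/
noncomputable def resFunctor : CochainComplex X.Modules ℤ ⥤ CochainComplex X.Modules ℤ where
  obj G := resObj (startRes G)
  map φ := resHom φ
  map_id G := resHom_id G
  map_comp φ ψ := resHom_comp φ ψ

variable (X) in
/-- The resolution map. -/
noncomputable def resNat : resFunctor X ⟶ 𝟭 (CochainComplex X.Modules ℤ) where
  app G := resMap (startRes G)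
  naturality _ _ φ := resHom_map φ

end GrothLib.OX.KFlatFun28
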